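/-
Project B62.  Involutions of the Conway group on the Leech lattice modulo two.
-/
import Cfsg.Agent.BMU.Lat
import Cfsg.Agent.H38.MonTwoB
import Cfsg.Agent.H26.CoInv
import Cfsg.Agent.S0368

set_option autoImplicit false

namespace Cfsg.Agent.B62

open Subgroup MulAction H15 BMU Pointwise
open Cfsg.Agent.H14 (bits enc pc)

/-- `128` classes modulo the vectors fixed modulo two -/
def Fam (k : Co0) : Prop := ∃ lam : Fin 64 × Bool → leechLattice,
  ∀ i j w, k • (lam i + lam j) = lam i + lam j + (w + w) → i = j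

theorem Fam.conj {k j : Co0} (h : Fam k) (c : IsConj k j) : Fam j := by
  obtain ⟨g, rfl⟩ := isConj_iff.1 c
  obtain ⟨lam, h⟩ := h
  refine ⟨fun i => g • lam i, fun i j w e => h i j (g⁻¹ • w) (smul_left_cancel g ?_)⟩
  rw [← co0_smul_add, mul_smul, mul_smul, inv_smul_smul] at e
  rw [e, co0_smul_add g (_ + _), co0_smul_add g (g⁻¹ • w), smul_inv_smul]

theorem Fam.neg {k : Co0} (h : Fam k) : Fam (negC * k) := by
  obtain ⟨lam, h⟩ := h
  refine ⟨lam, fun i j w e => h i j (-(lam i + lam j) - w) ?_⟩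
  rw [mul_smul, negC_smul, neg_eq_iff_eq_neg] at e
  rw [e]; abel

theorem fam_sign {d : ℕ} (hd : enc d = d) (h24 : d < 2 ^ 24) (h12 : pc d ≤ 12) {a b : GolayPt}
    (ha : a ∈ bits d) (hb : b ∉ bits d) (h : ∀ x < 64, (enc x &&& d = 0 ∨ enc x &&& d = d) → x = 0) :
    Fam (signC (bits d) (isCw_bits hd)) := by
  let y : Fin 64 → leechLattice := fun T => ⟨_, vTwo_mem (H14.bits_enc_mem T)⟩
  refine ⟨fun i => y i.1 + if i.2 then w4 a b 1 rfl else 0, fun ⟨T, ε⟩ ⟨T', ε'⟩ w e => ?_⟩
  have hw : ∀ l, (w : Vec) l = if l ∈ bits d then -(vTwo (bits (enc T)) l + vTwo (bits (enc T')) l +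
      ((if ε then w4 a b 1 rfl else 0 : leechLattice) : Vec) l +
      ((if ε' then w4 a b 1 rfl else 0 : leechLattice) : Vec) l) else 0 := fun l => by
    have := congrFun (congrArg Subtype.val e) l
    rw [signC_apply] at this
    simp only [AddSubgroup.coe_add, Pi.add_apply, y] at this
    split_ifs at this ⊢ <;> omega
  have f4 : ∀ (ε : Bool) l, ((if ε then w4 a b 1 rfl else 0 : leechLattice) : Vec) l % 4 = 0 := fun ε l => by
    cases ε
    · rfl
    · rw [if_pos rfl, w4_apply]; split_ifs <;> rfl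
  have x64 : (T : ℕ) ^^^ T' < 64 := Nat.xor_lt_two_pow (n := 6) T.2 T'.2
  have et : H38.MT.tw w = bits (enc (T ^^^ T') &&& d) := by
    ext l
    have h1 := f4 ε l
    have h2 := f4 ε' l
    rw [H38.MT.mem_tw, hw, H14.bits_and, H14.enc_xor, H14.bits_xor, Finset.mem_inter, Finset.mem_symmDiff]
    simp only [vTwo]
    by_cases c1 : l ∈ bits d <;> by_cases c2 : l ∈ bits (enc T) <;> by_cases c3 : l ∈ bits (enc T') <;>
      simp only [c1, c2, c3, if_true, if_false, not_true, not_false_iff, and_true, and_false, or_false,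
        or_true, iff_true, iff_false, true_or] <;> omega
  have lt : enc (T ^^^ T') &&& d < 2 ^ 24 := lt_of_le_of_lt Nat.and_le_right h24
  have eT : T = T' := by
    refine Fin.ext (Nat.xor_eq_zero_iff.1 (h _ x64 ?_))
    rcases H38.MT.sub_cases (H38.MT.tw_cw w) (isCw_bits hd) (by rw [et, H14.bits_and]; exact Finset.inter_subset_right)
      with c | c | c
    · exact .inl (H14.bits_inj lt (by norm_num) (by rw [← et, c, H14.bits_zero]))
    · exact .inr (H14.bits_inj lt h24 (et.symm.trans c))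
    · rw [H14.card_bits] at c; omega
  subst eT
  by_contra n
  have ex : ((w + (y T - signC (bits d) (isCw_bits hd) • y T) : leechLattice) : Vec) = Pi.single a (-4) := by
    funext l
    have hab : l ∈ bits d → l ≠ b := fun h e => hb (e ▸ h)
    rw [AddSubgroup.coe_add, AddSubgroup.coe_sub, Pi.add_apply, Pi.sub_apply, signC_apply, hw, Pi.single_apply]
    by_cases c : l ∈ bits d
    · cases ε <;> cases ε' <;> first
        | exact absurd rfl n
        | (simp only [c, if_true, y, w4_apply, hab c, if_false, Bool.false_eq_true, AddSubgroup.coe_zero,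
            Pi.zero_apply]; split_ifs <;> omega)
    · simp [c, show l ≠ a from fun e => c (e ▸ ha)]
  have := min_norm (ex ▸ Subtype.property _) fun e => by simpa using congrFun e a
  rw [sqNorm_single] at this
  omega

theorem fam_cw {c : Finset GolayPt} (hc : IsCw c) (h : c.card = 8 ∨ c.card = 12) : Fam (signC c hc) := by
  have key : ∀ d (hd : IsCw d) (σ : M24), (σ : Equiv.Perm GolayPt) • d = c → Fam (signC d hd) →
      Fam (signC c hc) := fun d hd σ e F => by
    subst e
    exact F.conj (isConj_iff.2 ⟨_, permC_conj_signC σ d hd⟩)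
  rcases h with h | h
  · obtain ⟨g, hg, e⟩ := H14.m24_octad_transitive (H14.bits_mem_octads (m := 15515712) (by decide +kernel)
      (by decide +kernel)) (H38.MT.mem_octads hc h)
    exact key _ _ ⟨g, hg⟩ e (fam_sign (d := 15515712) (a := none) (b := some 0) (by decide +kernel) (by norm_num)
      (by decide +kernel) (by decide +kernel) (by decide +kernel) (by decide +kernel))
  · obtain ⟨g, e⟩ := S0368.result _ c (H14.bits_mem_dodecads (m := 16719941) (by decide +kernel)
      (by decide +kernel)) ⟨hc, h⟩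
    exact key _ _ g e (fam_sign (d := 16719941) (a := none) (b := some 1) (by decide +kernel) (by norm_num)
      (by decide +kernel) (by decide +kernel) (by decide +kernel) (by decide +kernel))

theorem fam {k : Co0} (h2 : k * k = 1) (h1 : k ≠ 1) (hn : k ≠ negC) : Fam k := by
  obtain ⟨c, hc, e⟩ := H26.CoInv.isConj_signC h2
  refine Fam.conj ?_ e.symm
  rcases hc.card_cases with h | h | h | h | h
  · obtain rfl := Finset.card_eq_zero.1 h
    rw [signC_empty] at e
    exact absurd (isConj_one_left.1 e) h1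
  · exact fam_cw hc (.inl h)
  · exact fam_cw hc (.inr h)
  · have := (fam_cw hc.compl (.inl (by rw [H38.MT.card_compl', h]))).neg
    rw [negC, signC_mul] at this
    convert this using 2
    ext; simp [Finset.mem_symmDiff]
  · obtain rfl := Finset.eq_univ_of_card c (h.trans card_pt.symm)
    obtain ⟨g, e⟩ := isConj_iff.1 e.symm
    refine absurd (co0_ext fun v => ?_) hn
    rw [← e, mul_smul, mul_smul, show signC _ hc = negC from rfl, negC_smul, negC_smul, co0_smul_neg,
      smul_inv_smul]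

variable {u l : leechLattice}

/-- an involution of `Co₂` fixes a point -/
theorem fix_pt (hu : sqNorm (u : Vec) = 32) {k : Co0} (h2 : k * k = 1) (hk : k • u = u) :
    ∃ l, T22 u l ∧ k • l = l := by
  obtain ⟨c, hc, e⟩ := H26.CoInv.isConj_signC h2
  obtain ⟨g, rfl⟩ := isConj_iff.1 e.symm
  obtain ⟨u, rfl⟩ : ∃ v, u = g • v := ⟨g⁻¹ • u, (smul_inv_smul g u).symm⟩
  rw [co0_norm] at hu
  rw [mul_smul, mul_smul, inv_smul_smul, smul_left_cancel_iff] at hk
  have h0 : ∀ i, |(u : Vec) i| ≠ 0 → i ∉ c := fun i h hi => by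
    have := congrFun (congrArg Subtype.val hk) i
    rw [signC_apply, if_pos hi] at this
    exact h (abs_eq_zero.2 (by omega))
  obtain ⟨a, b, n, ha, hb, s⟩ : ∃ a b, a ≠ b ∧ a ∉ c ∧ b ∉ c ∧ |(u : Vec) a| + |(u : Vec) b| = 4 := by
    rcases shape32 u.2 hu with s | s | s
    · obtain ⟨a, ha⟩ := exists_of_cnt_pos (x := u) (k := 4) (by rw [s.2.2.2.2.1]; norm_num)
      have c1 := h0 a (by omega)
      obtain ⟨b, hb, e⟩ := exists_of_card_lt_cnt (x := u) (k := 0) c (by
        have := hc.card_cases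
        have := Finset.card_lt_card (Finset.ssubset_univ_iff.2 fun e : c = _ => c1 (e ▸ Finset.mem_univ a))
        rw [Finset.card_univ, card_pt] at this
        rw [s.1]; omega)
      exact ⟨a, b, fun h => by rw [h] at ha; omega, c1, hb, by omega⟩
    · obtain ⟨a, ha⟩ := exists_of_cnt_pos (x := u) (k := 2) (by rw [s.2.2.1]; norm_num)
      obtain ⟨b, hb, e⟩ := exists_of_card_lt_cnt (x := u) (k := 2) {a} (by rw [s.2.2.1]; norm_num)
      exact ⟨a, b, fun h => hb (by simp [h]), h0 a (by omega), h0 b (by omega), by omega⟩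
    · obtain ⟨a, ha⟩ := exists_of_cnt_pos (x := u) (k := 3) (by rw [s.2.2.2.1]; norm_num)
      obtain ⟨b, hb⟩ := exists_of_cnt_pos (x := u) (k := 1) (by rw [s.2.1]; norm_num)
      exact ⟨a, b, fun h => by rw [h] at ha; omega, h0 a (by omega), h0 b (by omega), by omega⟩
  obtain ⟨e, he, e2, d⟩ : ∃ (e : ℤ) (he : e % 2 = 1), e ^ 2 = 1 ∧
      (dotInt (u : Vec) (w4 a b e he) = -16 ∨ dotInt (u : Vec) (w4 a b e he) = 16) := by
    rcases abs_cases ((u : Vec) a) with h | h <;> rcases abs_cases ((u : Vec) b) with h' | h'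
    · exact ⟨1, rfl, rfl, by rw [dot_w4]; omega⟩
    · exact ⟨-1, rfl, rfl, by rw [dot_w4]; omega⟩
    · exact ⟨-1, rfl, rfl, by rw [dot_w4]; omega⟩
    · exact ⟨1, rfl, rfl, by rw [dot_w4]; omega⟩
  have f : signC c hc • w4 a b e he = w4 a b e he := Subtype.ext (funext fun i => by
    rw [signC_apply, w4_apply]
    by_cases h1 : i ∈ c
    · rw [if_pos h1, if_neg fun h : i = a => ha (h ▸ h1), if_neg fun h : i = b => hb (h ▸ h1)]; rfl
    · rw [if_neg h1])
  have nw := sqNorm_w4 n he e2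
  rcases d with d | d
  · exact ⟨g • w4 a b e he, T22.smul g ⟨nw, d⟩, by rw [mul_smul, mul_smul, inv_smul_smul, f]⟩
  · exact ⟨g • -w4 a b e he, T22.smul g ⟨by rw [nN, nw], by rw [dN, d]⟩, by
      rw [mul_smul, mul_smul, inv_smul_smul, co0_smul_neg (signC c hc), f]⟩

theorem cw7 : IsCw (bits 13938692) := isCw_bits (by decide +kernel)

/-- seven points with sum zero -/
theorem seven (hu : sqNorm (u : Vec) = 32) : ∃ l : Fin 7 → leechLattice, (∀ i, T22 u (l i)) ∧
    Cg u (l 0 + l 1 + l 2 + l 3 + l 4 + l 5 + l 6) 0 := by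
  obtain ⟨g, rfl⟩ := trans32 uP u sqNorm_uP hu
  let l : Fin 7 → leechLattice := ![w4 (some 2) none (-1) rfl, -w4 (some 12) none 1 rfl,
    -w4 (some 13) none 1 rfl, -w4 (some 15) none 1 rfl, -w4 (some 18) none 1 rfl, -w4 (some 20) none 1 rfl,
    -w4 (some 22) none 1 rfl]
  have h1 : ∀ i, T22 uP (l i) := by unfold T22; decide +kernel
  let w : leechLattice := w4 (some 2) none (-3) rfl - ⟨_, vTwo_mem cw7⟩
  have h3 : l 0 + l 1 + l 2 + l 3 + l 4 + l 5 + l 6 = 0 + (w + w) := Subtype.ext (by decide +kernel)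
  have h2 : Cg uP (l 0 + l 1 + l 2 + l 3 + l 4 + l 5 + l 6) 0 := ⟨w, .inl h3⟩
  exact ⟨fun i => g • l i, fun i => (h1 i).smul g, by
    simpa only [co0_smul_add, co0_smul_zero] using h2.smul g⟩

theorem comm_pt (hu : sqNorm (u : Vec) = 32) {x : leechLattice} (hx : (16 : ℤ) ∣ dotInt (u : Vec) x) :
    ∃ l, T22 u l ∧ (16 : ℤ) ∣ dotInt (l : Vec) x := by
  obtain ⟨l, h1, h2⟩ := seven hu
  have := h2.dot hx
  by_contra! n
  have k : ∀ i, dotInt (l i : Vec) x % 16 = 8 := fun i => by
    have := n _ (h1 i)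
    have := d8 (l i) x
    omega
  have := k 0; have := k 1; have := k 2; have := k 3; have := k 4; have := k 5; have := k 6
  simp only [dA, show dotInt ((0 : leechLattice) : Vec) x = 0 by simp [dotInt]] at *
  omega

theorem three (hu : sqNorm (u : Vec) = 32) (h : T22 u l) : ∃ v : leechLattice, (16 : ℤ) ∣ dotInt (u : Vec) v ∧
    (16 : ℤ) ∣ dotInt (v : Vec) l ∧ sqNorm (v : Vec) = 48 := by
  obtain ⟨g, rfl, rfl⟩ := h.std hu
  refine ⟨g • ⟨_, vTwo_mem (isCw_bits (m := 11472927) (by decide +kernel))⟩, ?_⟩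
  rw [co0_dot, co0_dot, co0_norm]
  decide +kernel

/-- `l + δ` is a point orthogonal to `l` -/
def Pt (u l δ : leechLattice) : Prop :=
  (∃ s, T22 u s ∧ Cg u s (l + δ)) ∧ ¬ Cg u δ 0 ∧ (16 : ℤ) ∣ dotInt (δ : Vec) l

/-- normal form -/
def Nf (u l d : leechLattice) : Prop :=
  sqNorm (d : Vec) = 32 ∧ dotInt (u : Vec) d = 0 ∧ dotInt (l : Vec) d = 16

theorem Pt.nf (hu : sqNorm (u : Vec) = 32) (h : T22 u l) {δ : leechLattice} (p : Pt u l δ) :
    ∃ d, Cg u d δ ∧ Nf u l d := by
  obtain ⟨⟨s, hs, c⟩, n, o⟩ := p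
  have key : ∀ s, T22 u s → Cg u s (l + δ) → dotInt (l : Vec) s < 32 ∧ -32 < dotInt (l : Vec) s ∧
      (dotInt (l : Vec) s = 16 → ∃ d, Cg u d δ ∧ Nf u l d) := fun s hs c => by
    have c' : Cg u (l + -s) δ := ((Cg.refl u l).add ((Cg.neg u s).trans c)).trans ⟨l, .inl (by abel)⟩
    refine ⟨by_contra fun k => n ?_, by_contra fun k => ?_, fun e => ⟨_, c', ?_, ?_, ?_⟩⟩
    · have : l = - -s := eq_of_norm (by rw [nA, nN, dN, h.1, hs.1]; omega)
      exact c'.symm.trans (by rw [this, neg_add_cancel]; exact .refl _ _)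
    · have : l = -s := eq_of_norm (by rw [nA, h.1, hs.1]; omega)
      have h2 := h.2
      rw [this, dN, hs.2] at h2
      omega
    · rw [nA, nN, dN, h.1, hs.1]; omega
    · rw [dB, dN, h.2, hs.2]; rfl
    · rw [dB, dN, dot_self, h.1, e]; rfl
  have k1 := key s hs c
  have k2 := key _ (hs.opp hu) (((Cg.neg u _).trans ⟨0, .inr (by simp)⟩).trans c)
  have d1 := c.dot (v := l) (by rw [h.2]; norm_num)
  rw [dN, dB, dot_comm (l : Vec) u, h.2] at k2
  rw [dA, dot_self, h.1, dot_comm] at d1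
  by_cases e : dotInt (l : Vec) s = 16
  exacts [k1.2.2 e, k2.2.2 (by omega)]

theorem plane (hu : sqNorm (u : Vec) = 32) (h : T22 u l) {a b c : leechLattice} (ha : Nf u l a)
    (hb : Nf u l b) (hc : Nf u l c) (e : Cg u (a + b) c) (o : (16 : ℤ) ∣ dotInt (a : Vec) b) :
    dotInt (a : Vec) b = 0 ∧ ∃ w, a + b = c + u + (w + w) := by
  have n1 := nA a b
  have n2 := nA a (-b)
  have n3 := nA c u
  rw [nN, dN] at n2
  rw [dot_comm, hc.2.1, hc.1, hu] at n3
  rw [ha.1, hb.1] at n1 n2
  have p1 := sqNorm_nonneg ((a + b : leechLattice) : Vec)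
  have p2 := sqNorm_nonneg ((a + -b : leechLattice) : Vec)
  have l1 := dB a b l
  have l2 := dB a (-b) l
  have l3 := dN c l
  rw [dN] at l2
  rw [ha.2.2, hb.2.2] at l1 l2
  have l4 := hc.2.2
  have c1 := hc.1
  have z : ∀ {v x w : leechLattice}, v = x + (w + w) → sqNorm (v : Vec) = 0 → sqNorm (x : Vec) ≠ 0 →
      sqNorm (x : Vec) ≤ 64 → False := fun {v x w} e h0 h1 h2 =>
    short_ne_two (w := -w) h1 h2 (by
      rw [show v = 0 from Subtype.ext (sqNorm_eq_zero h0)] at e
      exact eq_neg_of_add_eq_zero_left e.symm |>.trans (neg_add _ _))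
  obtain ⟨w, e | e⟩ := e
  · exfalso
    have e' : a + -b = c + ((w - b) + (w - b)) := by rw [← sub_add_cancel (a + -b) (b + b)]; rw [show a + -b - (b + b) + (b + b) = a + b - (b + b) by abel, e]; abel
    obtain d | d | d | d | d : dotInt (a : Vec) b = -32 ∨ dotInt (a : Vec) b = -16 ∨ dotInt (a : Vec) b = 0 ∨
      dotInt (a : Vec) b = 16 ∨ dotInt (a : Vec) b = 32 := by omega
    · exact z e (by omega) (by omega) (by omega)
    · rcases (short_congr e (by omega) (by omega) (by omega) (by omega)).2 (by omega) with k | k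
      · rw [← k] at l1; omega
      · rw [k, dN] at l4; omega
    · have := (short_congr e (by omega) (by omega) (by omega) (by omega)).1
      omega
    · rcases (short_congr e' (by omega) (by omega) (by omega) (by omega)).2 (by omega) with k | k
      · rw [← k] at l2; omega
      · rw [k, dN] at l4; omega
    · exact z e' (by omega) (by omega) (by omega)
  · refine ⟨?_, w, e⟩
    have e' : a + -b = c + u + ((w - b) + (w - b)) := by
      rw [show a + -b = a + b - (b + b) by abel, e]; abel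
    obtain d | d | d | d | d : dotInt (a : Vec) b = -32 ∨ dotInt (a : Vec) b = -16 ∨ dotInt (a : Vec) b = 0 ∨
      dotInt (a : Vec) b = 16 ∨ dotInt (a : Vec) b = 32 := by omega
    · exact (z e (by omega) (by omega) (by omega)).elim
    · have := (short_congr e (by omega) (by omega) (by omega) (by omega)).1
      omega
    · exact d
    · have := (short_congr e' (by omega) (by omega) (by omega) (by omega)).1
      omega
    · exact (z e' (by omega) (by omega) (by omega)).elim

/-- eight mutually orthogonal points do not form an affine space -/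
theorem no_cube (hu : sqNorm (u : Vec) = 32) (h : T22 u l) {a b c : leechLattice} (pa : Pt u l a)
    (pb : Pt u l b) (pc : Pt u l c) (pab : Pt u l (a + b)) (pac : Pt u l (a + c)) (pbc : Pt u l (b + c))
    (pabc : Pt u l (a + b + c)) (ua : (16 : ℤ) ∣ dotInt (u : Vec) a) (ub : (16 : ℤ) ∣ dotInt (u : Vec) b)
    (uc : (16 : ℤ) ∣ dotInt (u : Vec) c) (aa : (16 : ℤ) ∣ dotInt (a : Vec) a) (bb : (16 : ℤ) ∣ dotInt (b : Vec) b)
    (ab : (16 : ℤ) ∣ dotInt (a : Vec) b) (ac : (16 : ℤ) ∣ dotInt (a : Vec) c)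
    (bc : (16 : ℤ) ∣ dotInt (b : Vec) c) : False := by
  obtain ⟨a', ea, na⟩ := pa.nf hu h
  obtain ⟨b', eb, nb⟩ := pb.nf hu h
  obtain ⟨c', ec, nc⟩ := pc.nf hu h
  obtain ⟨d', ed, nd⟩ := pab.nf hu h
  obtain ⟨x1, e1, n1⟩ := pac.nf hu h
  obtain ⟨x2, e2, n2⟩ := pbc.nf hu h
  obtain ⟨x3, e3, n3⟩ := pabc.nf hu h
  have o : ∀ {x x' y y' : leechLattice}, Cg u x' x → Cg u y' y → Nf u l y' → (16 : ℤ) ∣ dotInt (u : Vec) x →
      (16 : ℤ) ∣ dotInt (x : Vec) y → (16 : ℤ) ∣ dotInt (x' : Vec) y' := fun {x x' y y'} ex ey ny ux xy => by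
    have h1 := ex.dot (v := y') (by rw [ny.2.1]; norm_num)
    have h2 := ey.dot ux
    rw [dot_comm (y' : Vec), dot_comm (y : Vec)] at h2
    omega
  have ud : (16 : ℤ) ∣ dotInt (u : Vec) (a + b : leechLattice) := by rw [dB]; omega
  obtain ⟨ab0, w, e⟩ := plane hu h na nb nd ((ea.add eb).trans ed.symm) (o ea eb nb ua ab)
  have ad0 := (plane hu h na nd nb ((ea.add ed).trans (Cg.trans ⟨a, .inl (by abel)⟩ eb.symm))
    (o ea ed nd ua (by rw [dB]; omega))).1
  have bd0 := (plane hu h nb nd na ((eb.add ed).trans (Cg.trans ⟨b, .inl (by abel)⟩ ea.symm))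
    (o eb ed nd ub (by rw [dB, dot_comm (b : Vec) a]; omega))).1
  have ac0 := (plane hu h na nc n1 ((ea.add ec).trans e1.symm) (o ea ec nc ua ac)).1
  have bc0 := (plane hu h nb nc n2 ((eb.add ec).trans e2.symm) (o eb ec nc ub bc)).1
  have dc0 := (plane hu h nd nc n3 ((ed.add ec).trans e3.symm) (o ed ec nc ud (by rw [dA]; omega))).1
  have ey : a' + b' + d' + -u = (d' + w) + (d' + w) := by rw [e]; abel
  generalize d' + w = y at ey
  have f : ∀ v : leechLattice, dotInt (a' : Vec) v + dotInt (b' : Vec) v + dotInt (d' : Vec) v -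
      dotInt (u : Vec) v = 2 * dotInt (y : Vec) v := fun v => by
    have := congrArg (fun x : leechLattice => dotInt (x : Vec) v) ey
    simp only [dA, AddSubgroup.coe_neg, dot_neg_left] at this
    omega
  have f1 := f a'; have f2 := f b'; have f3 := f d'; have f4 := f u; have f5 := f y; have f6 := f l
  have f7 := f c'
  rw [dot_self, na.1, dot_comm (b' : Vec), dot_comm (d' : Vec), na.2.1] at f1
  rw [dot_self, nb.1, dot_comm (d' : Vec), nb.2.1] at f2
  rw [dot_self, nd.1, nd.2.1] at f3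
  rw [dot_self, hu, dot_comm (a' : Vec), dot_comm (b' : Vec), dot_comm (d' : Vec), na.2.1, nb.2.1, nd.2.1] at f4
  rw [dot_self, dot_comm (a' : Vec), dot_comm (b' : Vec), dot_comm (d' : Vec), dot_comm (u : Vec)] at f5
  rw [dot_comm (a' : Vec), dot_comm (b' : Vec), dot_comm (d' : Vec), na.2.2, nb.2.2, nd.2.2, h.2] at f6
  have : y = - -l := eq_of_norm (by rw [nA, nN, dN, h.1]; omega)
  rw [this, neg_neg, nc.2.2, nc.2.1] at f7
  omega

end Cfsg.Agent.B62
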